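import Groth.Agent.AlgSpLib.Descent

/-!
# Descent of morphisms along locally surjective maps of fppf sheaves
-/

set_option autoImplicit false

universe u

open CategoryTheory CategoryTheory.Limits AlgebraicGeometry Opposite
open AlgSp

noncomputable section

namespace Groth.Agent.NeronSp27

variable {S : Scheme.{u}}

/-- A map out of the source of a locally surjective map descends if it is constant on the fibres. -/
theorem exists_hom {P F Q : Sp S} (p : P ⟶ F) (π : P ⟶ Q) [Sheaf.IsLocallySurjective p]
    (hπ : ∀ (T : Over S) (u v : (yon S).obj T ⟶ P), u ≫ p = v ≫ p → u ≫ π = v ≫ π) :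
    ∃ φ : F ⟶ Q, p ≫ φ = π := by
  have hQ' := (isSheaf_iff_isSheaf_of_type _ _).1 Q.property
  have hfib : ∀ (T : Over S) (u v : P.obj.obj (op T)), p.hom.app _ u = p.hom.app _ v →
      π.hom.app _ u = π.hom.app _ v := fun T u v h => by
    have h' := hπ T ((J S).uliftYonedaEquiv.symm u) ((J S).uliftYonedaEquiv.symm v)
      ((J S).uliftYonedaEquiv.injective (by
        rw [GrothendieckTopology.uliftYonedaEquiv_comp, GrothendieckTopology.uliftYonedaEquiv_comp,
          Equiv.apply_symm_apply, Equiv.apply_symm_apply, h]))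
    have h'' := congrArg (J S).uliftYonedaEquiv h'
    rwa [GrothendieckTopology.uliftYonedaEquiv_comp, GrothendieckTopology.uliftYonedaEquiv_comp,
      Equiv.apply_symm_apply, Equiv.apply_symm_apply] at h''
  have key : ∀ (T : Over S) (x : F.obj.obj (op T)), ∃! y : Q.obj.obj (op T), ∀ ⦃T' : Over S⦄ (f : T' ⟶ T)
      (w : P.obj.obj (op T')), p.hom.app _ w = F.obj.map f.op x → π.hom.app _ w = Q.obj.map f.op y := by
    intro T x
    have hc : Presheaf.imageSieve p.hom x ∈ J S T := Presheaf.imageSieve_mem (J S) p.hom x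
    let fam : Presieve.FamilyOfElements Q.obj (Presheaf.imageSieve p.hom x).arrows := fun T' f hf =>
      π.hom.app _ (Presheaf.localPreimage p.hom x f hf)
    have hfam : fam.Compatible := by
      intro Y₁ Y₂ Z g₁ g₂ f₁ f₂ h₁ h₂ e
      show Q.obj.map g₁.op (π.hom.app _ _) = Q.obj.map g₂.op (π.hom.app _ _)
      rw [← NatTrans.naturality_apply π.hom, ← NatTrans.naturality_apply π.hom]
      refine hfib Z _ _ ?_
      rw [NatTrans.naturality_apply p.hom, NatTrans.naturality_apply p.hom, Presheaf.app_localPreimage,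
        Presheaf.app_localPreimage, ← FunctorToTypes.map_comp_apply, ← FunctorToTypes.map_comp_apply,
        ← op_comp, ← op_comp, e]
    obtain ⟨y, hy, hu⟩ := hQ' _ hc fam hfam
    refine ⟨y, fun T' f w hw => ?_, fun y' hy' => hu y' fun T' f hf => ?_⟩
    · have hf : Presheaf.imageSieve p.hom x f := ⟨w, hw⟩
      exact (hfib T' _ _ (hw.trans (Presheaf.app_localPreimage p.hom x f hf).symm)).trans (hy f hf).symm
    · exact (hy' f _ (Presheaf.app_localPreimage p.hom x f hf)).symm
  choose φ hφ hu using key
  refine ⟨⟨{ app := fun T => ↾(fun x => φ T.unop x), naturality := ?_ }⟩, ?_⟩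
  · intro T T' g
    ext x
    refine (hu T'.unop (F.obj.map g x) (Q.obj.map g (φ T.unop x)) fun T'' f w hw => ?_).symm
    rw [← FunctorToTypes.map_comp_apply] at hw ⊢
    exact hφ T.unop x (f ≫ g.unop) w hw
  · refine Sheaf.hom_ext ?_
    ext T w
    exact ((hφ T.unop (p.hom.app T w) (𝟙 _) w (by simp)).trans (by simp)).symm

/-- Maps out of a sheaf are determined by their composites with the points. -/
theorem hom_ext_points {F Q : Sp S} {φ ψ : F ⟶ Q}
    (h : ∀ (T : Over S) (x : (yon S).obj T ⟶ F), x ≫ φ = x ≫ ψ) : φ = ψ := by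
  refine Sheaf.hom_ext ?_
  ext T x
  have h' := congrArg (J S).uliftYonedaEquiv (h T.unop ((J S).uliftYonedaEquiv.symm x))
  rwa [GrothendieckTopology.uliftYonedaEquiv_comp, GrothendieckTopology.uliftYonedaEquiv_comp,
    Equiv.apply_symm_apply] at h'

/-- Maps from a representable sheaf agree if they agree on a covering sieve. -/
theorem hom_ext_cover {Q : Sp S} {T : Over S} {R : Sieve T} (hR : R ∈ J S T) {α β : (yon S).obj T ⟶ Q}
    (h : ∀ ⦃T' : Over S⦄ (f : T' ⟶ T), R f → (yon S).map f ≫ α = (yon S).map f ≫ β) : α = β := by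
  refine (J S).uliftYonedaEquiv.injective ?_
  refine ((isSheaf_iff_isSheaf_of_type _ _).1 Q.property R hR).isSeparatedFor.ext fun T' f hf => ?_
  rw [GrothendieckTopology.uliftYonedaEquiv_naturality, GrothendieckTopology.uliftYonedaEquiv_naturality, h f hf]

end Groth.Agent.NeronSp27
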