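import Groth.Agent.NeronLib.FlatDense
import Groth.Agent.FlatMor12.RegularExtend
import Groth.Agent.Stk19b.DenseFactor
import Mathlib.AlgebraicGeometry.SpreadingOut
import Mathlib.AlgebraicGeometry.Sites.Fpqc

/-!
# Extending morphisms given on a schematically dense open along a flat surjective base change
-/

set_option autoImplicit false
set_option backward.isDefEq.respectTransparency.types false

universe u

open CategoryTheory CategoryTheory.Limits AlgebraicGeometry TopologicalSpace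

namespace Groth.Agent.NeronSp27

/-- In a Noetherian sober space a point of the closure of a locally closed set is a specialisation of one of its
points. -/
theorem exists_specializes {α : Type*} [TopologicalSpace α] [NoetherianSpace α] [QuasiSober α] {E C : Set α}
    (hE : IsOpen E) (hC : IsClosed C) {y : α} (hy : y ∈ closure (E ∩ C)) : ∃ z ∈ E ∩ C, z ⤳ y := by
  obtain ⟨T, hTf, hTc, hTi, hTC⟩ := NoetherianSpace.exists_finite_set_isClosed_irreducible hC
  have e : E ∩ C = ⋃ t ∈ T, E ∩ t := by rw [hTC, Set.sUnion_eq_biUnion, Set.inter_iUnion₂]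
  rw [e, hTf.closure_biUnion] at hy
  simp only [Set.mem_iUnion] at hy
  obtain ⟨t, ht, hy⟩ := hy
  have hne : (E ∩ t).Nonempty := by
    by_contra h
    rw [Set.not_nonempty_iff_eq_empty.1 h, closure_empty] at hy
    exact hy
  obtain ⟨η, hη⟩ := QuasiSober.sober (hTi t ht) (hTc t ht)
  obtain ⟨w, hwE, hwt⟩ := hne
  refine ⟨η, ⟨(hη.specializes hwt).mem_open hE hwE, ?_⟩, hη.specializes ?_⟩
  · rw [hTC]
    exact ⟨t, ht, hη.mem⟩
  · exact closure_minimal Set.inter_subset_right (hTc t ht) hy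

variable {S : Scheme.{u}}

/-- Morphisms into a separated scheme agreeing over a schematically dense open of the base are equal. -/
theorem eq_of_dense [IsLocallyNoetherian S] {U : S.Opens} (hU : CInt.IsSchematicallyDense U) {W N : Scheme.{u}}
    (w : W ⟶ S) [Flat w] (n : N ⟶ S) [IsSeparated n] (a b : W ⟶ N) (ha : a ≫ n = w) (hb : b ≫ n = w)
    (h : (w ⁻¹ᵁ U).ι ≫ a = (w ⁻¹ᵁ U).ι ≫ b) : a = b := by
  haveI : QuasiCompact (w ⁻¹ᵁ U).ι :=
    MorphismProperty.of_isPullback (P := @QuasiCompact) (isPullback_morphismRestrict w U) inferInstance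
  haveI : IsSchemeTheoreticallyDominant (w ⁻¹ᵁ U).ι :=
    ⟨Stk19b.DenseFactor.ker_ι_eq_bot _ (NeronLib.isSchematicallyDense_preimage w hU)⟩
  exact FlatMor12.RegularExtend.ext_of_isSchemeTheoreticallyDominant n (ha.trans hb.symm) (w ⁻¹ᵁ U).ι h

theorem flat_surjective_stalkMap {X Y : Scheme.{u}} (f : X ⟶ Y) [Flat f] (x : X) :
    Flat (Spec.map (f.stalkMap x)) ∧ Surjective (Spec.map (f.stalkMap x)) := by
  rw [flat_and_surjective_SpecMap_iff]
  algebraize [(f.stalkMap x).hom]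
  exact @Module.FaithfullyFlat.of_flat_of_isLocalHom _ _ _ _ _ _ _ (Flat.stalkMap f x) (f.toLRSHom.prop x)

/-- **Extension by descent.** A morphism given over a schematically dense open which extends after a flat
surjective base change extends. -/
theorem exists_extend [IsLocallyNoetherian S] {U : S.Opens} (hU : CInt.IsSchematicallyDense U)
    {Y Y' N : Scheme.{u}} (p : Y ⟶ S) [Flat p] [IsLocallyNoetherian Y] (n : N ⟶ S) [IsSeparated n]
    [LocallyOfFiniteType n] (q : Y' ⟶ Y) [Flat q] [Surjective q]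
    (φ : (p ⁻¹ᵁ U : Y.Opens).toScheme ⟶ N) (hφ : φ ≫ n = (p ⁻¹ᵁ U).ι ≫ p)
    (k : Y' ⟶ N) (hk : k ≫ n = q ≫ p)
    (hkφ : ∀ {T : Scheme.{u}} (z : T ⟶ Y') (t : T ⟶ (p ⁻¹ᵁ U : Y.Opens).toScheme),
      t ≫ (p ⁻¹ᵁ U).ι = z ≫ q → z ≫ k = t ≫ φ) :
    ∃ f : Y ⟶ N, f ≫ n = p ∧ (p ⁻¹ᵁ U).ι ≫ f = φ := by
  let O := p ⁻¹ᵁ U
  have hpair : pullback.fst q q ≫ k = pullback.snd q q ≫ k := by
    let w : pullback q q ⟶ S := (pullback.fst q q ≫ q) ≫ p
    refine eq_of_dense hU w n _ _ (by simp [w, hk]) (by simp [w, hk, pullback.condition_assoc]) ?_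
    let t : (w ⁻¹ᵁ U : (pullback q q).Opens).toScheme ⟶ O.toScheme :=
      IsOpenImmersion.lift O.ι ((w ⁻¹ᵁ U).ι ≫ pullback.fst q q ≫ q) (by
        rw [Scheme.Opens.range_ι]
        rintro _ ⟨z, rfl⟩
        exact z.2)
    have ht : t ≫ O.ι = (w ⁻¹ᵁ U).ι ≫ pullback.fst q q ≫ q := IsOpenImmersion.lift_fac _ _ _
    rw [← Category.assoc, ← Category.assoc,
      hkφ ((w ⁻¹ᵁ U).ι ≫ pullback.fst q q) t (by rw [ht, Category.assoc]),
      hkφ ((w ⁻¹ᵁ U).ι ≫ pullback.snd q q) t (by rw [ht, Category.assoc, pullback.condition])]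
  have hloc : ∀ y : Y, ∃ (W : Y.Opens) (h : W.toScheme ⟶ N), y ∈ W ∧ h ≫ n = W.ι ≫ p ∧
      ∀ {T : Scheme.{u}} (z : T ⟶ W.toScheme) (t : T ⟶ O.toScheme), t ≫ O.ι = z ≫ W.ι → z ≫ h = t ≫ φ := by
    intro y
    obtain ⟨y', rfl⟩ := q.surjective y
    let ρ := Spec.map (q.stalkMap y')
    obtain ⟨hρf, hρs⟩ := flat_surjective_stalkMap q y'
    haveI : Flat ρ := hρf
    haveI : Surjective ρ := hρs
    have hρ : ρ ≫ Y.fromSpecStalk (q y') = Y'.fromSpecStalk y' ≫ q := Scheme.SpecMap_stalkMap_fromSpecStalk q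
    let d := EffectiveEpi.desc ρ (Y'.fromSpecStalk y' ≫ k) (fun {Z} a b hab => by
      have e : (a ≫ Y'.fromSpecStalk y') ≫ q = (b ≫ Y'.fromSpecStalk y') ≫ q := by
        rw [Category.assoc, Category.assoc, ← hρ, reassoc_of% hab]
      have := pullback.lift _ _ e ≫= hpair
      rw [pullback.lift_fst_assoc, pullback.lift_snd_assoc] at this
      simpa only [Category.assoc] using this)
    have hd : ρ ≫ d = Y'.fromSpecStalk y' ≫ k := EffectiveEpi.fac _ _ _
    have hdn : d ≫ n = Y.fromSpecStalk (q y') ≫ p := by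
      rw [← cancel_epi ρ, reassoc_of% hd, hk, reassoc_of% hρ]
    -- over `U` the descended morphism is the given one
    have hdφ : ∀ {T : Scheme.{u}} (z : T ⟶ Spec (Y.presheaf.stalk (q y'))) (t : T ⟶ O.toScheme),
        t ≫ O.ι = z ≫ Y.fromSpecStalk (q y') → z ≫ d = t ≫ φ := by
      intro T z t ht
      haveI := Flat.epi_of_flat_of_surjective (pullback.fst z ρ)
      rw [← cancel_epi (pullback.fst z ρ), pullback.condition_assoc, hd, ← Category.assoc,
        hkφ (pullback.snd z ρ ≫ Y'.fromSpecStalk y') (pullback.fst z ρ ≫ t)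
          (by rw [Category.assoc, ht, pullback.condition_assoc, hρ, Category.assoc]), Category.assoc]
    obtain ⟨W₀, hyW₀, h₀, hd₀, hn₀⟩ := spread_out_of_isGermInjective' p n d hdn
    obtain ⟨_, ⟨V₀, hV, rfl⟩, hyV, hVW⟩ := Y.isBasis_affineOpens.exists_subset_of_mem_open hyW₀ W₀.2
    let V : Y.Opens := V₀
    change V ≤ W₀ at hVW
    let E : Y.Opens := V ⊓ O
    let a : E.toScheme ⟶ N := Y.homOfLE (inf_le_left.trans hVW) ≫ h₀
    let b : E.toScheme ⟶ N := Y.homOfLE inf_le_right ≫ φ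
    let good : Set Y := {z | ∃ A : E.toScheme.Opens, z ∈ E.ι ''ᵁ A ∧ A.ι ≫ a = A.ι ≫ b}
    have hgood : IsOpen good := by
      refine isOpen_iff_forall_mem_open.2 fun z ⟨A, hz, hA⟩ => ⟨(E.ι ''ᵁ A : Y.Opens), fun w hw => ⟨A, hw, hA⟩,
        (E.ι ''ᵁ A).2, hz⟩
    have hgen : ∀ z, z ∈ E → z ⤳ q y' → z ∈ good := by
      intro z hz hs
      let z₀ : E.toScheme := ⟨z, hz⟩
      haveI : IsLocallyNoetherian E.toScheme := isLocallyNoetherian_of_isOpenImmersion E.ι
      let s := E.toScheme.fromSpecStalk z₀ ≫ E.ι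
      let σ : Spec (E.toScheme.presheaf.stalk z₀) ⟶ Spec (Y.presheaf.stalk (q y')) :=
        Spec.map (E.ι.stalkMap z₀) ≫ Spec.map (Y.presheaf.stalkSpecializes hs)
      have hσ : σ ≫ Y.fromSpecStalk (q y') = s := by
        have e1 := Scheme.SpecMap_stalkSpecializes_fromSpecStalk (X := Y) hs
        have e2 := Scheme.SpecMap_stalkMap_fromSpecStalk E.ι (x := z₀)
        show (Spec.map (E.ι.stalkMap z₀) ≫ Spec.map (Y.presheaf.stalkSpecializes hs)) ≫ _ = _
        exact (Category.assoc _ _ _).trans ((congrArg (Spec.map (E.ι.stalkMap z₀) ≫ ·) e1).trans e2)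
      have hea : E.toScheme.fromSpecStalk z₀ ≫ a = σ ≫ d := by
        have e : σ ≫ W₀.fromSpecStalkOfMem (q y') hyW₀ =
            E.toScheme.fromSpecStalk z₀ ≫ Y.homOfLE (inf_le_left.trans hVW) := by
          rw [← cancel_mono W₀.ι]
          refine (Category.assoc _ _ _).trans ((congrArg (σ ≫ ·) (W₀.fromSpecStalkOfMem_ι _ hyW₀)).trans (hσ.trans ?_))
          rw [Category.assoc, Scheme.homOfLE_ι]
        rw [hd₀, reassoc_of% e]
      obtain ⟨A, hzA, hA⟩ := spread_out_unique_of_isGermInjective' (x := z₀) a b (by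
        rw [hea, hdφ σ (E.toScheme.fromSpecStalk z₀ ≫ Y.homOfLE inf_le_right)
          (by rw [Category.assoc, Scheme.homOfLE_ι, hσ]), Category.assoc])
      exact ⟨A, ⟨z₀, hzA, rfl⟩, hA⟩
    haveI : IsAffine V.toScheme := hV
    haveI : IsNoetherian V.toScheme :=
      { toIsLocallyNoetherian := isLocallyNoetherian_of_isOpenImmersion V.ι
        toCompactSpace := inferInstance }
    have hclo : q y' ∉ closure ((E : Set Y) \ good) := by
      intro hy
      let E' : Set V.toScheme := V.ι.base ⁻¹' (E : Set Y)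
      let C' : Set V.toScheme := V.ι.base ⁻¹' goodᶜ
      have hy' : (⟨q y', hyV⟩ : V.toScheme) ∈ closure (E' ∩ C') := by
        refine mem_closure_iff.2 fun o ho hyo => ?_
        obtain ⟨_, ⟨z₁, hz₁, rfl⟩, hzE, hzg⟩ := mem_closure_iff.1 hy _ (V.ι.isOpenEmbedding.isOpenMap o ho)
          ⟨_, hyo, rfl⟩
        exact ⟨z₁, hz₁, hzE, hzg⟩
      obtain ⟨z, ⟨hzE, hzC⟩, hs⟩ := exists_specializes ((E.2).preimage V.ι.continuous)
        (hgood.isClosed_compl.preimage V.ι.continuous) hy'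
      exact hzC (hgen _ hzE (hs.map V.ι.continuous))
    let W : Y.Opens := V ⊓ ⟨(closure ((E : Set Y) \ good))ᶜ, isClosed_closure.isOpen_compl⟩
    refine ⟨W, Y.homOfLE (inf_le_left.trans hVW) ≫ h₀, ⟨hyV, hclo⟩, ?_, fun {T} z t ht => ?_⟩
    · rw [Category.assoc, hn₀, Scheme.homOfLE_ι_assoc]
    · have hzE : ∀ x : T, W.ι (z x) ∈ E := fun x => ⟨(z x).2.1, by
        have := congr($ht x)
        simp only [Scheme.Hom.comp_apply] at this
        rw [← this]
        exact (t x).2⟩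
      let zE : T ⟶ E.toScheme := IsOpenImmersion.lift E.ι (z ≫ W.ι) (by
        rw [Scheme.Opens.range_ι]
        rintro _ ⟨x, rfl⟩
        exact hzE x)
      have hzE' : zE ≫ E.ι = z ≫ W.ι := IsOpenImmersion.lift_fac _ _ _
      have e1 : z ≫ Y.homOfLE (inf_le_left.trans hVW) = zE ≫ Y.homOfLE (inf_le_left.trans hVW) := by
        rw [← cancel_mono W₀.ι]
        simp [hzE']
      have e2 : t = zE ≫ Y.homOfLE inf_le_right := by
        rw [← cancel_mono O.ι]
        simp [hzE', ht]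
      rw [e2, reassoc_of% e1, Category.assoc]
      show zE ≫ a = zE ≫ b
      -- equality is local
      have hcov : ∀ x : T, ∃ A : E.toScheme.Opens, zE x ∈ A ∧ A.ι ≫ a = A.ι ≫ b := by
        intro x
        have hg : E.ι (zE x) ∈ good := by
          by_contra hng
          have hx : W.ι (z x) = E.ι (zE x) := by
            rw [← Scheme.Hom.comp_apply, ← Scheme.Hom.comp_apply, hzE']
          exact (z x).2.2 (subset_closure ⟨hzE x, (congrArg (· ∉ good) hx).mpr hng⟩)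
        obtain ⟨A, ⟨x', hx', hxx⟩, hA⟩ := hg
        have : x' = zE x := E.ι.isOpenEmbedding.injective hxx
        exact ⟨A, this ▸ hx', hA⟩
      choose A hxA hA using hcov
      have hsup : IsOpenCover fun x => zE ⁻¹ᵁ A x :=
        IsOpenCover.mk (eq_top_iff.2 fun x _ => Opens.mem_iSup.2 ⟨x, hxA x⟩)
      refine (T.openCoverOfIsOpenCover _ hsup).hom_ext _ _ fun x => ?_
      show (zE ⁻¹ᵁ A x).ι ≫ zE ≫ a = (zE ⁻¹ᵁ A x).ι ≫ zE ≫ b
      rw [← morphismRestrict_ι_assoc, hA, morphismRestrict_ι_assoc]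
  choose W h hmem hn hh using hloc
  have hsup : IsOpenCover W := IsOpenCover.mk (eq_top_iff.2 fun y _ => Opens.mem_iSup.2 ⟨y, hmem y⟩)
  let 𝒰 := Y.openCoverOfIsOpenCover W hsup
  have hcompat : ∀ i j, pullback.fst (W i).ι (W j).ι ≫ h i = pullback.snd (W i).ι (W j).ι ≫ h j := by
    intro i j
    let w : pullback (W i).ι (W j).ι ⟶ S := (pullback.fst (W i).ι (W j).ι ≫ (W i).ι) ≫ p
    refine eq_of_dense hU w n _ _ (by simp [w, hn]) (by simp [w, hn, pullback.condition_assoc]) ?_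
    let t : (w ⁻¹ᵁ U : (pullback (W i).ι (W j).ι).Opens).toScheme ⟶ O.toScheme :=
      IsOpenImmersion.lift O.ι ((w ⁻¹ᵁ U).ι ≫ pullback.fst (W i).ι (W j).ι ≫ (W i).ι) (by
        rw [Scheme.Opens.range_ι]
        rintro _ ⟨z, rfl⟩
        exact z.2)
    have ht : t ≫ O.ι = (w ⁻¹ᵁ U).ι ≫ pullback.fst (W i).ι (W j).ι ≫ (W i).ι := IsOpenImmersion.lift_fac _ _ _
    rw [← Category.assoc, ← Category.assoc,
      hh i ((w ⁻¹ᵁ U).ι ≫ pullback.fst (W i).ι (W j).ι) t (by rw [ht, Category.assoc]),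
      hh j ((w ⁻¹ᵁ U).ι ≫ pullback.snd (W i).ι (W j).ι) t (by rw [ht, Category.assoc, pullback.condition])]
  let f : Y ⟶ N := 𝒰.glueMorphisms h hcompat
  have hf : ∀ i, (W i).ι ≫ f = h i := fun i => 𝒰.ι_glueMorphisms h hcompat i
  refine ⟨f, 𝒰.hom_ext _ _ fun i => ?_, ?_⟩
  · show (W i).ι ≫ f ≫ n = (W i).ι ≫ p
    rw [← Category.assoc, hf, hn]
  · have hsup' : IsOpenCover fun i => O.ι ⁻¹ᵁ W i :=
      IsOpenCover.mk (eq_top_iff.2 fun y _ => Opens.mem_iSup.2 ⟨O.ι y, hmem (O.ι y)⟩)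
    refine (O.toScheme.openCoverOfIsOpenCover _ hsup').hom_ext _ _ fun i => ?_
    show (O.ι ⁻¹ᵁ W i).ι ≫ O.ι ≫ f = (O.ι ⁻¹ᵁ W i).ι ≫ φ
    rw [← morphismRestrict_ι_assoc, hf]
    exact hh i _ _ (morphismRestrict_ι O.ι (W i)).symm

end Groth.Agent.NeronSp27
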